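import Groth.Agent.H22.CImm.Gen
import Groth.Agent.H22.FinPushF
import Groth.Agent.S3858

/-!
# Base change along a closed immersion of formal schemes (helper22)
-/

set_option autoImplicit false
set_option maxHeartbeats 1000000
set_option linter.style.haveILetI false

universe u

open CategoryTheory CategoryTheory.Limits AlgebraicGeometry TopologicalSpace Opposite
open Groth.Agent.H30 Groth.Agent.H30.RealLimSec Groth.Agent.Lib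
open Groth.Agent.Lib.ModSiteLoc.Basic Groth.Agent.Lib.ModSiteLoc.Top

namespace Groth.Agent.H22.CImm.Formal

theorem appLE_surjective {X Y : Scheme.{u}} (φ : X ⟶ Y) [IsClosedImmersion φ] {U : Y.Opens}
    (hU : IsAffineOpen U) {W : X.Opens} (e : W ≤ φ ⁻¹ᵁ U) (e' : φ ⁻¹ᵁ U ≤ W) :
    Function.Surjective (φ.appLE U W e).hom := by
  obtain rfl : W = φ ⁻¹ᵁ U := le_antisymm e e'
  rw [← Scheme.Hom.app_eq_appLE]
  exact φ.app_surjective U hU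

theorem ker_snd {A B C : Scheme.{u}} (a : A ⟶ C) (b : B ⟶ C) [IsClosedImmersion a] :
    (pullback.snd a b).ker = a.ker.comap b := by
  rw [← pullbackSymmetry_hom_comp_fst, Scheme.Hom.ker_comp_of_isIso,
    Scheme.IdealSheafData.ker_fst_of_isClosedImmersion]

theorem ker_appLE_ideal {X Y : Scheme.{u}} (φ : X ⟶ Y) [QuasiCompact φ] {U : Y.Opens}
    (hU : IsAffineOpen U) {W : X.Opens} (e : W ≤ φ ⁻¹ᵁ U) (e' : φ ⁻¹ᵁ U ≤ W) :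
    RingHom.ker (φ.appLE U W e).hom = φ.ker.ideal ⟨U, hU⟩ := by
  rw [Levels.ker_appLE_eq φ U W e e', ← φ.ker_apply ⟨U, hU⟩]

section Hom

variable {𝔛 𝔖 : FSch.Sys.{u}} (h𝔛 : 𝔛.IsLocNoethFormal) (h𝔖 : 𝔖.IsLocNoethFormal) (f : 𝔛 ⟶ 𝔖)
  (hf : FSch.IsAdicHom f) [IsClosedImmersion ((f : FSch.Hom 𝔛 𝔖).app 0)]

include hf in
/-- A closed immersion is surjective on sections over affines. -/
theorem sh_surjective {W : (𝔖.X 0).Opens} (hW : IsAffineOpen W) :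
    Function.Surjective (FinPushF.sh h𝔛 h𝔖 f W) := fun x => by
  have h0 : Function.Surjective (FinPushF.shk h𝔛 h𝔖 f 0 W) :=
    appLE_surjective _ (OshBasic.isAffineOpen_lvU 𝔖 h𝔖.1 0 hW) _
      (FSch.Hom.lvU_preimage f h𝔛.1 h𝔖.1 0 W).le
  obtain ⟨a, ha⟩ := FinPushF.gen_of_mod h𝔛 h𝔖 f hf hW
    (fun _ : Fin 1 => (show sec h𝔖.1 (FinPushF.P h𝔛 h𝔖 f) W from (1 : Levels.A 𝔛 h𝔛.1 (FinPushF.pre f W))))
    (fun y => by
      obtain ⟨c, hc⟩ := h0 y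
      refine ⟨fun _ => c, ?_⟩
      rw [Fin.sum_univ_one]
      exact hc.symm.trans ((mul_one _).symm.trans (congrArg (_ * ·) (map_one (Levels.proj 𝔛 h𝔛.1 0 _).hom).symm)))
    (show sec h𝔖.1 (FinPushF.P h𝔛 h𝔖 f) W from x)
  rw [Fin.sum_univ_one] at ha
  refine ⟨a 0, Eq.trans (mul_one _).symm ?_⟩
  exact ha.symm

include hf h𝔛 h𝔖 in
theorem isCImm : Gen.IsCImm (A := TopCat.of ((𝔛.X 0).carrier)) ((f : FSch.Hom 𝔛 𝔖).app 0).base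
    (FSch.Hom.sharp f h𝔛.1 h𝔖.1) := by
  have hemb := ((f : FSch.Hom 𝔛 𝔖).app 0).isClosedEmbedding
  have hnhd : ∀ (a : 𝔛.X 0) (U : (𝔛.X 0).Opens), a ∈ U →
      ∃ V : (𝔖.X 0).Opens, (f : FSch.Hom 𝔛 𝔖).app 0 a ∈ V ∧ FinPushF.pre f V ≤ U := fun a U ha => by
    obtain ⟨V, hV, hVU⟩ := hemb.isInducing.isOpen_iff.1 U.2
    exact ⟨⟨V, hV⟩, (Set.ext_iff.1 hVU a).2 ha, fun b hb => (Set.ext_iff.1 hVU b).1 hb⟩
  refine ⟨hemb.isClosed_range, hnhd, fun a r => ?_⟩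
  obtain ⟨U, -, hU, s, hs⟩ := exists_gr (O := 𝔛.Osh h𝔛.1) (Opens.mem_top a) (fun _ : Unit => r)
  obtain ⟨V, hV, hVU⟩ := hnhd a U hU
  obtain ⟨W, hW, haW, hWV⟩ := exists_isAffineOpen_mem_and_subset hV
  have hle : FinPushF.pre f W ≤ U := fun b hb => hVU (hWV hb)
  obtain ⟨c, hc⟩ := sh_surjective h𝔛 h𝔖 f hf hW (rr (𝔛.Osh h𝔛.1) (homOfLE hle) (s ()))
  refine ⟨W, haW, c, ?_⟩
  exact (congrArg (gr (𝔛.Osh h𝔛.1) _) hc).trans ((gr_rr _ _ hU _).trans (hs ()))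

include hf in
/-- Lifting the kernel of a level to the kernel on sections. -/
theorem ker_shk_le {W : (𝔖.X 0).Opens} (hW : IsAffineOpen W) (n : ℕ) :
    RingHom.ker (FinPushF.shk h𝔛 h𝔖 f n W) ≤
      (RingHom.ker (FinPushF.sh h𝔛 h𝔖 f W)).map (Levels.proj 𝔖 h𝔖.1 n W).hom := by
  intro c hc
  obtain ⟨a, rfl⟩ := ((Levels.adic h𝔖 hW).2.1 n).1 c
  have h1 : FinPushF.sh h𝔛 h𝔖 f W a ∈
      (Levels.J (h := h𝔖.1) W ^ (n + 1)).map (FinPushF.sh h𝔛 h𝔖 f W) := by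
    rw [Ideal.map_pow, ← FinPushF.J_eq h𝔛 h𝔖 f hf hW,
      ← ((Levels.adic h𝔛 (FinPushF.isAffineOpen_pre f hW)).2.1 n).2, RingHom.mem_ker, FinPushF.proj_sh]
    exact hc
  obtain ⟨j, hj, hja⟩ := (Ideal.mem_map_iff_of_surjective _ (sh_surjective h𝔛 h𝔖 f hf hW)).1 h1
  have h2 : Levels.proj 𝔖 h𝔖.1 n W j = 0 := by
    rw [← ((Levels.adic h𝔖 hW).2.1 n).2] at hj
    exact hj
  have h3 : Levels.proj 𝔖 h𝔖.1 n W (a - j) = Levels.proj 𝔖 h𝔖.1 n W a := by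
    rw [map_sub, h2, sub_zero]
  rw [← h3]
  exact Ideal.mem_map_of_mem _ (RingHom.mem_ker.2 (by rw [map_sub, hja, sub_self]))

end Hom

section Square

variable {𝔖 𝔛 𝔜 : FSch.Sys.{u}} (h𝔖 : 𝔖.IsLocNoethFormal) (h𝔛 : 𝔛.IsLocNoethFormal)
  (h𝔜 : 𝔜.IsLocNoethFormal) (f : 𝔛 ⟶ 𝔖) (g : 𝔜 ⟶ 𝔖) (hf : FSch.IsAdicHom f)
  [IsClosedImmersion ((f : FSch.Hom 𝔛 𝔖).app 0)]
  (hZ : (FSch.pullbackSys f g).IsLocNoethFormal)

instance isClosedImmersion_snd :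
    IsClosedImmersion ((FSch.pullbackSnd f g : FSch.Hom _ _).app 0) :=
  inferInstanceAs (IsClosedImmersion (pullback.snd ((f : FSch.Hom 𝔛 𝔖).app 0) ((g : FSch.Hom 𝔜 𝔖).app 0)))

include hf h𝔖 h𝔜 in
theorem isAdicHom_snd : FSch.IsAdicHom (FSch.pullbackSnd f g) :=
  (Groth.Agent.S3858.result f g h𝔜 hf).2.1

theorem range_snd (y : 𝔜.X 0)
    (hy : (g : FSch.Hom 𝔜 𝔖).app 0 y ∈ Set.range ((f : FSch.Hom 𝔛 𝔖).app 0)) :
    y ∈ Set.range ((FSch.pullbackSnd f g : FSch.Hom _ _).app 0) := by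
  show y ∈ Set.range (pullback.snd ((f : FSch.Hom 𝔛 𝔖).app 0) ((g : FSch.Hom 𝔜 𝔖).app 0))
  rw [Scheme.Pullback.range_snd]
  exact hy

theorem base_comm (z : (FSch.pullbackSys f g).X 0) :
    (f : FSch.Hom 𝔛 𝔖).app 0 ((FSch.pullbackFst f g : FSch.Hom _ _).app 0 z) =
      (g : FSch.Hom 𝔜 𝔖).app 0 ((FSch.pullbackSnd f g : FSch.Hom _ _).app 0 z) :=
  congrArg (fun φ : (FSch.pullbackSys f g).X 0 ⟶ 𝔖.X 0 => φ z)
    (FSch.Hom.sq_app (FSch.pullbackFst f g) f (FSch.pullbackSnd f g) g (FSch.pullbackSys_condition f g) 0)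

theorem sharp_comm (U : (𝔖.X 0).Opens) (r : Levels.A 𝔖 h𝔖.1 U) :
    rr ((FSch.pullbackSys f g).Osh hZ.1)
        (eqToHom (FSch.Hom.sq_preimage (FSch.pullbackFst f g) f (FSch.pullbackSnd f g) g
          (FSch.pullbackSys_condition f g) U).symm)
        (FinPushF.sh hZ h𝔛 (FSch.pullbackFst f g) _ (FinPushF.sh h𝔛 h𝔖 f U r)) =
      FinPushF.sh hZ h𝔜 (FSch.pullbackSnd f g) _ (FinPushF.sh h𝔜 h𝔖 g U r) := by
  have h := FSch.Hom.sharp_sq (FSch.pullbackFst f g) f (FSch.pullbackSnd f g) g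
    (FSch.pullbackSys_condition f g) hZ.1 h𝔛.1 h𝔜.1 h𝔖.1
  exact congrArg (fun t => t.hom.app (op U) r) h

include hf h𝔖 h𝔜 in
theorem ker_local (z : (FSch.pullbackSys f g).X 0) (W : (𝔜.X 0).Opens)
    (h : (FSch.pullbackSnd f g : FSch.Hom _ _).app 0 z ∈ W) (b : Levels.A 𝔜 h𝔜.1 W)
    (hb : gr ((FSch.pullbackSys f g).Osh hZ.1) (x := z) (U := FinPushF.pre (FSch.pullbackSnd f g) W) h
      (FinPushF.sh hZ h𝔜 (FSch.pullbackSnd f g) W b) = 0) :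
    gr (𝔜.Osh h𝔜.1) (x := (FSch.pullbackSnd f g : FSch.Hom _ _).app 0 z) h b ∈
      Ideal.span {t | ∃ (U : (𝔖.X 0).Opens)
        (hU : (g : FSch.Hom 𝔜 𝔖).app 0 ((FSch.pullbackSnd f g : FSch.Hom _ _).app 0 z) ∈ U)
        (k : Levels.A 𝔖 h𝔖.1 U), FinPushF.sh h𝔛 h𝔖 f U k = 0 ∧
          t = gr (𝔜.Osh h𝔜.1) (x := (FSch.pullbackSnd f g : FSch.Hom _ _).app 0 z)
            (U := FinPushF.pre g U) hU (FinPushF.sh h𝔜 h𝔖 g U k)} := by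
  have hq := isAdicHom_snd h𝔖 h𝔜 f g hf
  obtain ⟨U, hUle, hzU, hU⟩ := exists_rr_eq (O := (FSch.pullbackSys f g).Osh hZ.1)
    (U := FinPushF.pre (FSch.pullbackSnd f g) W) (x := z) h
    (fun _ : Unit => FinPushF.sh hZ h𝔜 (FSch.pullbackSnd f g) W b) (fun _ => 0)
    (fun _ => hb.trans (map_zero _).symm)
  obtain ⟨W', hW', hW'U⟩ := (isCImm hZ h𝔜 (FSch.pullbackSnd f g) hq).nhd z U hzU
  obtain ⟨U₀, hU₀, hzU₀, -⟩ := exists_isAffineOpen_mem_and_subset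
    (show (g : FSch.Hom 𝔜 𝔖).app 0 ((FSch.pullbackSnd f g : FSch.Hom _ _).app 0 z) ∈
      (⊤ : (𝔖.X 0).Opens) from trivial)
  obtain ⟨V, hV, hzV, hVle⟩ := exists_isAffineOpen_mem_and_subset
    (show (FSch.pullbackSnd f g : FSch.Hom _ _).app 0 z ∈ W ⊓ W' ⊓ FinPushF.pre g U₀ from
      ⟨⟨h, hW'⟩, hzU₀⟩)
  have eW : V ≤ W := fun y hy => (hVle hy).1.1
  have eU : V ≤ FinPushF.pre g U₀ := fun y hy => (hVle hy).2
  let b' : Levels.A 𝔜 h𝔜.1 V := CohPres.resA h𝔜.1 eW b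
  have hb' : FinPushF.sh hZ h𝔜 (FSch.pullbackSnd f g) V b' = 0 := by
    refine (ConcreteCategory.congr_hom
      ((FSch.Hom.sharp (FSch.pullbackSnd f g) hZ.1 h𝔜.1).hom.naturality (homOfLE eW).op) b).trans ?_
    have e' : FinPushF.pre (FSch.pullbackSnd f g) V ≤ U := fun y hy => hW'U (hVle hy).1.2
    have h5 := congrArg (rr ((FSch.pullbackSys f g).Osh hZ.1) (homOfLE e')) (hU ())
    rw [rr_rr, map_zero, map_zero] at h5
    exact (congrArg (fun a => rr ((FSch.pullbackSys f g).Osh hZ.1) a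
      (FinPushF.sh hZ h𝔜 (FSch.pullbackSnd f g) W b)) (Subsingleton.elim _ _)).trans h5
  let shA : Levels.A 𝔖 h𝔖.1 U₀ →+* Levels.A 𝔜 h𝔜.1 V :=
    (CohPres.resA h𝔜.1 eU).comp (FinPushF.sh h𝔜 h𝔖 g U₀)
  let I : Ideal (Levels.A 𝔜 h𝔜.1 V) := (RingHom.ker (FinPushF.sh h𝔛 h𝔖 f U₀)).map shA
  haveI := (Levels.adic h𝔜 hV).1
  haveI := Levels.isNoetherianRing_A h𝔜 hV
  have hlev : ∀ n, b' ∈ I ⊔ Levels.J (h := h𝔜.1) V ^ (n + 1) := fun n => by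
    have e : 𝔜.lvU h𝔜.1 n V ≤ (g : FSch.Hom 𝔜 𝔖).app n ⁻¹ᵁ 𝔖.lvU h𝔖.1 n U₀ :=
      (CohPres.lvU_mono h𝔜.1 n eU).trans (FSch.Hom.lvU_preimage g h𝔜.1 h𝔖.1 n U₀).ge
    have hcomp : (Levels.proj 𝔜 h𝔜.1 n V).hom.comp shA =
        (((g : FSch.Hom 𝔜 𝔖).app n).appLE (𝔖.lvU h𝔖.1 n U₀) (𝔜.lvU h𝔜.1 n V) e).hom.comp
          (Levels.proj 𝔖 h𝔖.1 n U₀).hom := by
      refine RingHom.ext fun a => ?_
      show Levels.proj 𝔜 h𝔜.1 n V (CohPres.resA h𝔜.1 eU (FinPushF.sh h𝔜 h𝔖 g U₀ a)) = _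
      rw [CohPres.proj_resA, FinPushF.proj_sh]
      exact ConcreteCategory.congr_hom
        (Scheme.Hom.appLE_map ((g : FSch.Hom 𝔜 𝔖).app n) _ (homOfLE (CohPres.lvU_mono h𝔜.1 n eU)).op) _
    haveI := SysLemmas.app_isClosedImmersion hf h𝔖 n
    haveI := SysLemmas.app_isClosedImmersion hq h𝔜 n
    have hk : RingHom.ker (FinPushF.shk hZ h𝔜 (FSch.pullbackSnd f g) n V) =
        (RingHom.ker (FinPushF.shk h𝔛 h𝔖 f n U₀)).map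
          (((g : FSch.Hom 𝔜 𝔖).app n).appLE (𝔖.lvU h𝔖.1 n U₀) (𝔜.lvU h𝔜.1 n V) e).hom := by
      rw [ker_appLE_ideal _ (OshBasic.isAffineOpen_lvU 𝔜 h𝔜.1 n hV) _
          (FSch.Hom.lvU_preimage (FSch.pullbackSnd f g) hZ.1 h𝔜.1 n V).le,
        ker_appLE_ideal _ (OshBasic.isAffineOpen_lvU 𝔖 h𝔖.1 n hU₀) _
          (FSch.Hom.lvU_preimage f h𝔛.1 h𝔖.1 n U₀).le,
        show ((FSch.pullbackSnd f g : FSch.Hom _ _).app n).ker =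
          ((f : FSch.Hom 𝔛 𝔖).app n).ker.comap ((g : FSch.Hom 𝔜 𝔖).app n) from ker_snd _ _]
      exact Groth.Agent.Lib.Ideal.Comap.ideal_comap _ _
        ⟨_, OshBasic.isAffineOpen_lvU 𝔖 h𝔖.1 n hU₀⟩ ⟨_, OshBasic.isAffineOpen_lvU 𝔜 h𝔜.1 n hV⟩ e
    have h1 : Levels.proj 𝔜 h𝔜.1 n V b' ∈ I.map (Levels.proj 𝔜 h𝔜.1 n V).hom := by
      rw [Ideal.map_map, hcomp, ← Ideal.map_map]
      refine Ideal.map_mono (ker_shk_le h𝔛 h𝔖 f hf hU₀ n) ?_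
      rw [← hk, RingHom.mem_ker, ← FinPushF.proj_sh, hb', map_zero]
    obtain ⟨y, hy, hyb⟩ := (Ideal.mem_map_iff_of_surjective _ ((Levels.adic h𝔜 hV).2.1 n).1).1 h1
    refine Submodule.mem_sup.2 ⟨y, hy, b' - y, ?_, add_sub_cancel y b'⟩
    rw [← ((Levels.adic h𝔜 hV).2.1 n).2, RingHom.mem_ker, map_sub, sub_eq_zero]
    exact hyb.symm
  haveI : IsHausdorff (Levels.J (h := h𝔜.1) V) (Levels.A 𝔜 h𝔜.1 V ⧸ I) :=
    IsHausdorff.of_le_jacobson _ _ (IsAdicComplete.le_jacobson_bot _)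
  have hI : b' ∈ I := by
    refine (Submodule.Quotient.mk_eq_zero I).1 (IsHausdorff.haus ‹_› _ fun n => ?_)
    obtain ⟨y, hy, j, hj, hyj⟩ := Submodule.mem_sup.1 (hlev n)
    rw [SModEq.zero, ← hyj]
    have h1 : (Submodule.Quotient.mk (y + j) : Levels.A 𝔜 h𝔜.1 V ⧸ I) = Submodule.mkQ I j := by
      rw [Submodule.Quotient.mk_add, (Submodule.Quotient.mk_eq_zero I).2 hy, zero_add]
      rfl
    rw [h1]
    have h2 : j ∈ Levels.J (h := h𝔜.1) V ^ n • (⊤ : Submodule (Levels.A 𝔜 h𝔜.1 V) (Levels.A 𝔜 h𝔜.1 V)) := by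
      rw [smul_eq_mul, Ideal.mul_top]
      exact Ideal.pow_le_pow_right (Nat.le_succ n) hj
    have h3 := Submodule.mem_map_of_mem (f := Submodule.mkQ I) h2
    rw [Submodule.map_smul''] at h3
    exact Submodule.smul_mono le_rfl le_top h3
  have h4 := Ideal.mem_map_of_mem (gr (𝔜.Osh h𝔜.1) (x := (FSch.pullbackSnd f g : FSch.Hom _ _).app 0 z) hzV) hI
  rw [Ideal.map_map] at h4
  rw [← gr_rr (homOfLE eW) hzV h]
  refine (Ideal.map_le_iff_le_comap.2 fun k hk => ?_) h4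
  exact Ideal.subset_span ⟨U₀, hzU₀, k, RingHom.mem_ker.1 hk, gr_rr (homOfLE eU) hzV hzU₀ _⟩

include hf in
/-- Base change along a closed immersion. -/
theorem isIso_bcMapF (𝔉 : FSch.ModF 𝔛 h𝔛.1) :
    IsIso (FSch.bcMapF (FSch.pullbackFst f g) f (FSch.pullbackSnd f g) g (FSch.pullbackSys_condition f g)
      hZ.1 h𝔛.1 h𝔜.1 h𝔖.1 𝔉) :=
  Gen.isIso_bcMap (FSch.Hom.sharp_sq (FSch.pullbackFst f g) f (FSch.pullbackSnd f g) g
      (FSch.pullbackSys_condition f g) hZ.1 h𝔛.1 h𝔜.1 h𝔖.1)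
    (isCImm h𝔛 h𝔖 f hf) (isCImm hZ h𝔜 (FSch.pullbackSnd f g) (isAdicHom_snd h𝔖 h𝔜 f g hf))
    (range_snd f g) (base_comm f g)
    (fun z U h r => by
      have h1 := congrArg (gr ((FSch.pullbackSys f g).Osh hZ.1) (x := z)
        (U := FinPushF.pre (FSch.pullbackSnd f g) (FinPushF.pre g U))
        (show (g : FSch.Hom 𝔜 𝔖).app 0 ((FSch.pullbackSnd f g : FSch.Hom _ _).app 0 z) ∈ U from
          base_comm f g z ▸ h)) (sharp_comm h𝔖 h𝔛 h𝔜 f g hZ U r)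
      refine Eq.trans ?_ h1
      exact (gr_rr (O := (FSch.pullbackSys f g).Osh hZ.1) (eqToHom (FSch.Hom.sq_preimage (FSch.pullbackFst f g) f
        (FSch.pullbackSnd f g) g (FSch.pullbackSys_condition f g) U).symm) _ h _).symm)
    (ker_local h𝔖 h𝔛 h𝔜 f g hf hZ) 𝔉

end Square

end Groth.Agent.H22.CImm.Formal
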