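import Groth.Agent.Lib.ModSiteLoc.Top
import Groth.Prelude.Def_FSch6
import Mathlib.Topology.Sheaves.SheafCondition.UniqueGluing

/-!
# Base change of modules along a closed immersion of ringed spaces (helper22)
-/

set_option autoImplicit false
set_option maxHeartbeats 1000000
set_option linter.style.haveILetI false

universe u

open CategoryTheory CategoryTheory.Limits Opposite TopologicalSpace
open Groth.Agent.Lib.ModSiteLoc.Basic Groth.Agent.Lib.ModSiteLoc.Top

namespace Groth.Agent.H22.CImm.Gen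

noncomputable section

section Sky

variable {T : TopCat.{u}} (O : Sheaf (Opens.grothendieckTopology T) CommRingCat.{u}) (z : T)
  (A : Type u) [AddCommGroup A] [Module (ModSite.stalkRing (pt z) O) A]

/-- The skyscraper presheaf. -/
def skyPre : (Opens T)ᵒᵖ ⥤ Ab.{u} where
  obj U := AddCommGrpCat.of (PLift (z ∈ U.unop) → A)
  map i := AddCommGrpCat.ofHom
    { toFun := fun s h => s ⟨i.unop.le h.down⟩
      map_zero' := rfl
      map_add' := fun _ _ => rfl }
  map_id _ := rfl
  map_comp _ _ := rfl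

instance skyModule (U : (Opens T)ᵒᵖ) :
    Module ((ModSite.ringSh O).obj.obj U) ((skyPre z A).obj U) where
  smul r s := fun h => gr O h.down r • s h
  one_smul s := funext fun h => by
    show gr O h.down (1 : O.obj.obj U) • s h = s h
    rw [map_one, one_smul]
  mul_smul a b s := funext fun h =>
    (congrArg (· • s h) (map_mul (gr O h.down) a b)).trans (mul_smul _ _ _)
  smul_zero a := funext fun h => smul_zero _
  smul_add a s t := funext fun h => smul_add _ _ _
  add_smul a b s := funext fun h =>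
    (congrArg (· • s h) (map_add (gr O h.down) a b)).trans (add_smul _ _ _)
  zero_smul s := funext fun h => by
    show gr O h.down (0 : O.obj.obj U) • s h = _
    rw [map_zero, zero_smul]
    rfl

theorem isSheaf_skyPre : TopCat.Presheaf.IsSheaf (X := T) (skyPre z A) := by
  rw [TopCat.Presheaf.isSheaf_iff_isSheafUniqueGluing]
  intro ι U sf hsf
  have hex : ∀ h : PLift (z ∈ iSup U), ∃ i, z ∈ U i := fun h => Opens.mem_iSup.mp h.down
  refine ⟨fun h => sf (hex h).choose ⟨(hex h).choose_spec⟩, fun i => ?_, fun s hs => ?_⟩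
  · funext h
    exact congrFun (hsf (hex ⟨Opens.mem_iSup.mpr ⟨i, h.down⟩⟩).choose i)
      ⟨⟨(hex ⟨Opens.mem_iSup.mpr ⟨i, h.down⟩⟩).choose_spec, h.down⟩⟩
  · funext h
    exact congrFun (hs (hex h).choose) ⟨(hex h).choose_spec⟩

/-- The skyscraper module. -/
def sky : ModSite.Mod O where
  val := PresheafOfModules.ofPresheaf (R := (ModSite.ringSh O).obj) (skyPre z A)
    (fun _ _ i r (s : PLift (z ∈ _) → A) => funext fun h => congrArg (· • s ⟨i.unop.le h.down⟩) (gr_rr i.unop h.down (i.unop.le h.down) r).symm)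
  isSheaf := isSheaf_skyPre z A

/-- Maps to skyscrapers. -/
def toSky (M : ModSite.Mod O) (v : ∀ (U : Opens T), z ∈ U → ModSite.sect M U → A)
    (hadd : ∀ U h s t, v U h (s + t) = v U h s + v U h t)
    (hsmul : ∀ U h (r : O.obj.obj (op U)) s, v U h (r • s) = gr O h r • v U h s)
    (hres : ∀ (U U' : Opens T) (e : U' ⟶ U) (h : z ∈ U') s, v U' h (rs M e s) = v U (e.le h) s) :
    M ⟶ sky O z A :=
  ⟨PresheafOfModules.homMk
    { app := fun U => AddCommGrpCat.ofHom
        (AddMonoidHom.mk' (fun s => (fun h => v U.unop h.down s : PLift (z ∈ U.unop) → A))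
          (fun s t => funext fun h => hadd _ _ s t))
      naturality := fun U U' i => by
        refine ConcreteCategory.hom_ext _ _ fun s => funext fun h => ?_
        exact hres U.unop U'.unop i.unop h.down s }
    (fun U r s => funext fun h => hsmul U.unop h.down r s)⟩

end Sky

variable {X Y : TopCat.{u}} (f : X ⟶ Y) {OX : Sheaf (Opens.grothendieckTopology X) CommRingCat.{u}}
  {OY : Sheaf (Opens.grothendieckTopology Y) CommRingCat.{u}}
  (c : OY ⟶ ((Opens.map f).sheafPushforwardContinuous CommRingCat.{u}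
    (Opens.grothendieckTopology Y) (Opens.grothendieckTopology X)).obj OX)

/-- The morphism of ringed sites. -/
abbrev mor : ModSite.RMor OX OY := ModSite.RMor.ofFlat (Opens.map f) c

/-- The structure map on sections. -/
abbrev sh (V : Opens Y) (r : OY.obj.obj (op V)) : OX.obj.obj (op ((Opens.map f).obj V)) :=
  c.hom.app (op V) r

/-- The unit on sections. -/
abbrev un (N : ModSite.Mod OY) (V : Opens Y) (n : ModSite.sect N V) :
    ModSite.sect ((mor f c).pull.obj N) ((Opens.map f).obj V) :=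
  ((mor f c).adj.unit.app N).val.app (op V) n

theorem un_add (N : ModSite.Mod OY) (V : Opens Y) (n m : ModSite.sect N V) :
    un f c N V (n + m) = un f c N V n + un f c N V m :=
  map_add (((mor f c).adj.unit.app N).val.app (op V)).hom n m

theorem un_zero (N : ModSite.Mod OY) (V : Opens Y) : un f c N V 0 = 0 :=
  map_zero (((mor f c).adj.unit.app N).val.app (op V)).hom

theorem un_smul (N : ModSite.Mod OY) (V : Opens Y) (r : OY.obj.obj (op V)) (n : ModSite.sect N V) :
    un f c N V (r • n) = sh f c V r • un f c N V n :=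
  map_smul (((mor f c).adj.unit.app N).val.app (op V)).hom r n

theorem un_res (N : ModSite.Mod OY) {V V' : Opens Y} (e : V' ⟶ V) (n : ModSite.sect N V) :
    un f c N V' (rs N e n) = rs _ ((Opens.map f).map e) (un f c N V n) :=
  PresheafOfModules.naturality_apply ((mor f c).adj.unit.app N).val e.op n

variable (N : ModSite.Mod OY)

/-- The span of the germs of the unit. -/
def G (x : X) : Submodule (ModSite.stalkRing (pt x) OX)
    (ModSite.stalkAb (pt x) ((mor f c).pull.obj N)) :=
  Submodule.span _ {t | ∃ (V : Opens Y) (h : f x ∈ V) (n : ModSite.sect N V),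
    t = gm _ (x := x) (U := (Opens.map f).obj V) h (un f c N V n)}

/-- Germs of the unit generate. -/
theorem gen (x : X) (t : ModSite.stalkAb (pt x) ((mor f c).pull.obj N)) : t ∈ G f c N x := by
  let M := (mor f c).pull.obj N
  let A : Type u := ModSite.stalkAb (pt x) M ⧸ G f c N x
  let ρ : M ⟶ sky OX x A := toSky OX x A M (fun U h s => Submodule.Quotient.mk (gm M h s))
    (fun U h s t => by rw [map_add, Submodule.Quotient.mk_add])
    (fun U h r s => by rw [gm_smul, Submodule.Quotient.mk_smul])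
    (fun U U' e h s => by rw [gm_rs e h (e.le h)])
  have h0 : ρ = 0 := by
    refine ((mor f c).adj.homEquiv N (sky OX x A)).injective ?_
    rw [Adjunction.homEquiv_unit, Adjunction.homEquiv_unit]
    refine SheafOfModules.hom_ext (PresheafOfModules.hom_ext fun V => ModuleCat.hom_ext
      (LinearMap.ext fun n => ?_))
    refine (funext fun h => ?_ : _ = (fun _ => 0 : PLift (x ∈ (Opens.map f).obj V.unop) → A))
    exact (Submodule.Quotient.mk_eq_zero _).2 (Submodule.subset_span ⟨V.unop, h.down, n, rfl⟩)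
  obtain ⟨U, -, hU, s, hs⟩ := exists_gm (M := M) (Opens.mem_top x) (fun _ : Unit => t)
  rw [← hs ()]
  exact (Submodule.Quotient.mk_eq_zero _).1
    (congrFun (congrArg (fun φ => φ.val.app (op U) (s ())) h0) ⟨hU⟩)

/-! ## The square -/

section Square

variable {P Q S : TopCat.{u}} {Z : TopCat.{u}}
  {OP : Sheaf (Opens.grothendieckTopology P) CommRingCat.{u}}
  {OQ : Sheaf (Opens.grothendieckTopology Q) CommRingCat.{u}}
  {OS : Sheaf (Opens.grothendieckTopology S) CommRingCat.{u}}
  {OZ : Sheaf (Opens.grothendieckTopology Z) CommRingCat.{u}}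
  (p : Z ⟶ P) (cp : OP ⟶ ((Opens.map p).sheafPushforwardContinuous CommRingCat.{u}
    (Opens.grothendieckTopology P) (Opens.grothendieckTopology Z)).obj OZ)
  (q : Z ⟶ Q) (cq : OQ ⟶ ((Opens.map q).sheafPushforwardContinuous CommRingCat.{u}
    (Opens.grothendieckTopology Q) (Opens.grothendieckTopology Z)).obj OZ)
  (i : P ⟶ S) (ci : OS ⟶ ((Opens.map i).sheafPushforwardContinuous CommRingCat.{u}
    (Opens.grothendieckTopology S) (Opens.grothendieckTopology P)).obj OP)
  (g : Q ⟶ S) (cg : OS ⟶ ((Opens.map g).sheafPushforwardContinuous CommRingCat.{u}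
    (Opens.grothendieckTopology S) (Opens.grothendieckTopology Q)).obj OQ)

/-- A germ-level description of a closed immersion. -/
structure IsCImm {A B : TopCat.{u}} {OA : Sheaf (Opens.grothendieckTopology A) CommRingCat.{u}}
    {OB : Sheaf (Opens.grothendieckTopology B) CommRingCat.{u}} (j : A ⟶ B)
    (cj : OB ⟶ ((Opens.map j).sheafPushforwardContinuous CommRingCat.{u}
      (Opens.grothendieckTopology B) (Opens.grothendieckTopology A)).obj OA) : Prop where
  closed : IsClosed (Set.range j)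
  nhd : ∀ (a : A) (U : Opens A), a ∈ U →
    ∃ V : Opens B, j a ∈ V ∧ (Opens.map j).obj V ≤ U
  surj : ∀ (a : A) (r : ModSite.stalkRing (pt a) OA),
    ∃ (V : Opens B) (h : j a ∈ V) (b : OB.obj.obj (op V)),
      gr OA (x := a) (U := (Opens.map j).obj V) h (sh j cj V b) = r

variable {p cp q cq i ci g cg}
  {e : (mor i ci).fn ⋙ (mor p cp).fn ≅ (mor g cg).fn ⋙ (mor q cq).fn}
  (hsq : ModSite.RMor.SharpSq (mor p cp) (mor i ci) (mor q cq) (mor g cg) e)
  (hi : IsCImm i ci) (hq : IsCImm q cq)
  (hrange : ∀ y : Q, g y ∈ Set.range i → y ∈ Set.range q)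
  (hw : ∀ z : Z, i (p z) = g (q z))
  (hcomm : ∀ (z : Z) (U : Opens S) (h : i (p z) ∈ U) (r : OS.obj.obj (op U)),
    gr OZ (x := z) (U := (Opens.map p).obj ((Opens.map i).obj U)) h (sh p cp _ (sh i ci U r)) =
      gr OZ (x := z) (U := (Opens.map q).obj ((Opens.map g).obj U)) (show g (q z) ∈ U from hw z ▸ h)
        (sh q cq _ (sh g cg U r)))
  (hker : ∀ (z : Z) (W : Opens Q) (h : q z ∈ W) (b : OQ.obj.obj (op W)),
    gr OZ (x := z) (U := (Opens.map q).obj W) h (sh q cq W b) = 0 →
      gr OQ (x := q z) h b ∈ Ideal.span {t | ∃ (U : Opens S) (hU : g (q z) ∈ U) (k : OS.obj.obj (op U)),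
        sh i ci U k = 0 ∧ t = gr OQ (x := q z) (U := (Opens.map g).obj U) hU (sh g cg U k)})
  (F : ModSite.Mod OP)

/-- The module upstairs. -/
abbrev M : ModSite.Mod OQ := (mor g cg).pull.obj ((mor i ci).push.obj F)

local notation "B" => ModSite.RMor.bcMap hsq F

/-- Sections of `F` as sections of the direct image. -/
abbrev dn (U : Opens S) (s : ModSite.sect F ((Opens.map i).obj U)) :
    ModSite.sect ((mor i ci).push.obj F) U := s

theorem B_un (U : Opens S) (s : ModSite.sect F ((Opens.map i).obj U)) :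
    ap B (un g cg ((mor i ci).push.obj F) U (dn (ci := ci) F U s)) =
      ((mor p cp).pull.obj F).val.presheaf.map (e.inv.app U).op
        (un p cp F ((Opens.map i).obj U) s) := by
  have h1 := congrArg (fun φ => φ.val.app (op U) (dn (ci := ci) F U s))
    (ModSite.RMor.bcMap_transpose hsq F)
  rw [Adjunction.homEquiv_unit] at h1
  exact h1

include hi hrange in
theorem stalk_eq_zero {y : Q} (hy : y ∉ Set.range q)
    (t : ModSite.stalkAb (pt y) (M (ci := ci) (cg := cg) F)) : t = 0 := by
  have := gen g cg ((mor i ci).push.obj F) y t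
  refine (Submodule.span_le (p := (⊥ : Submodule _ _)).2 ?_ this : t ∈ (⊥ : Submodule _ _))
  rintro _ ⟨V, h, n, rfl⟩
  let U : Opens S := V ⊓ ⟨(Set.range i)ᶜ, hi.closed.isOpen_compl⟩
  have hU : g y ∈ U := ⟨h, fun h' => hy (hrange y h')⟩
  have hn : rs ((mor i ci).push.obj F) (homOfLE (inf_le_left : U ≤ V)) n = 0 := by
    have hb : (Opens.map i).obj U = ⊥ := le_bot_iff.1 fun a ha => absurd ⟨a, rfl⟩ ha.2
    haveI : Subsingleton (ModSite.sect F ((Opens.map i).obj U)) :=
      AddCommGrpCat.subsingleton_of_isZero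
        ((TopCat.Sheaf.isTerminalOfEqEmpty ((SheafOfModules.toSheaf (ModSite.ringSh OP)).obj F) hb).isZero)
    exact Subsingleton.elim (α := ModSite.sect F ((Opens.map i).obj U)) _ _
  refine (Submodule.mem_bot _).2 ((gm_rs ((Opens.map g).map (homOfLE (inf_le_left : U ≤ V))) hU h _).symm.trans ?_)
  rw [← un_res, hn]
  exact (congrArg (gm _ _) (un_zero g cg _ _)).trans (map_zero _)

section Point

variable (z : Z)

/-- The stalk upstairs. -/
abbrev My : Type u := ModSite.stalkAb (pt (q z)) (M (ci := ci) (cg := cg) F)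

/-- The stalk map of rings. -/
def σ : ModSite.stalkRing (pt (q z)) OQ →+* ModSite.stalkRing (pt z) OZ :=
  ((pt (q z)).presheafFiberDesc (P := OQ.obj)
    (fun V a => cq.hom.app (op V) ≫
      (pt z).toPresheafFiber ((Opens.map q).obj V) ⟨⟨a.down.down⟩⟩ OZ.obj)
    (fun {V W} j a => (Category.assoc _ _ _).symm.trans ((congrArg (· ≫ _) (cq.hom.naturality j.op)).trans
      ((Category.assoc _ _ _).trans (congrArg (cq.hom.app (op W) ≫ ·)
        ((pt z).toPresheafFiber_w ((Opens.map q).map j) ⟨⟨a.down.down⟩⟩ OZ.obj)))))).hom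

theorem σ_gr {V : Opens Q} (h : q z ∈ V) (r : OQ.obj.obj (op V)) :
    σ (cq := cq) z (gr OQ h r) = gr OZ (x := z) (U := (Opens.map q).obj V) h (sh q cq V r) :=
  ConcreteCategory.congr_hom
    ((pt (q z)).toPresheafFiber_presheafFiberDesc (P := OQ.obj) _ _ V ⟨⟨h⟩⟩) r

include hq in
theorem σ_surjective : Function.Surjective (σ (cq := cq) z) := fun r => by
  obtain ⟨V, h, b, hb⟩ := hq.surj z r
  exact ⟨gr OQ h b, (σ_gr z h b).trans hb⟩

include hker in
theorem smul_eq_zero_of_σ {r : ModSite.stalkRing (pt (q z)) OQ} (hr : σ (cq := cq) z r = 0)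
    (t : My (q := q) (ci := ci) (cg := cg) F z) : r • t = 0 := by
  obtain ⟨W, -, hW, b, hb⟩ := exists_gr (O := OQ) (Opens.mem_top (q z)) (fun _ : Unit => r)
  rw [← hb ()] at hr ⊢
  rw [σ_gr] at hr
  have h1 := hker z W hW (b ()) hr
  generalize gr OQ hW (b ()) = r' at h1 ⊢
  induction gen g cg ((mor i ci).push.obj F) (q z) t using Submodule.span_induction with
  | zero => exact smul_zero _
  | add a a' _ _ ha ha' => rw [smul_add, ha, ha', add_zero]
  | smul s a _ ha => rw [smul_comm, ha, smul_zero]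
  | mem a ha =>
    obtain ⟨V, hV, n, rfl⟩ := ha
    induction h1 using Submodule.span_induction with
    | zero => exact zero_smul _ _
    | add a a' _ _ ha ha' => rw [add_smul, ha, ha', add_zero]
    | smul s a _ ha => rw [smul_assoc, ha, smul_zero]
    | mem a ha =>
      obtain ⟨U, hU, k, hk, rfl⟩ := ha
      let U' := U ⊓ V
      have h' : g (q z) ∈ U' := ⟨hU, hV⟩
      rw [← gm_rs ((Opens.map g).map (homOfLE (inf_le_right : U' ≤ V))) h' hV,
        ← gr_rr ((Opens.map g).map (homOfLE (inf_le_left : U' ≤ U))) h' hU, ← gm_smul, ← un_res]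
      have h2 : rr OQ ((Opens.map g).map (homOfLE (inf_le_left : U' ≤ U))) (sh g cg U k) =
          sh g cg U' (rr OS (homOfLE inf_le_left) k) :=
        (ConcreteCategory.congr_hom (cg.hom.naturality (homOfLE (inf_le_left : U' ≤ U)).op) k).symm
      rw [h2, ← un_smul]
      have h3 : rr OS (homOfLE (inf_le_left : U' ≤ U)) k •
          rs ((mor i ci).push.obj F) (homOfLE (inf_le_right : U' ≤ V)) n = 0 := by
        have h4 : sh i ci U' (rr OS (homOfLE inf_le_left) k) = 0 :=
          (ConcreteCategory.congr_hom (ci.hom.naturality (homOfLE (inf_le_left : U' ≤ U)).op) k).trans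
            ((congrArg _ hk).trans (map_zero (rr OP ((Opens.map i).map (homOfLE (inf_le_left : U' ≤ U))))))
        show sh i ci U' (rr OS (homOfLE inf_le_left) k) •
          (show ModSite.sect F ((Opens.map i).obj U') from
            rs ((mor i ci).push.obj F) (homOfLE (inf_le_right : U' ≤ V)) n) = 0
        rw [h4]
        exact zero_smul _ _
      rw [h3]
      exact (congrArg (gm _ _) (un_zero g cg _ _)).trans (map_zero _)

/-- Value of a local section of `F`. -/
def val (U : Opens S) (hU : g (q z) ∈ U) (s : ModSite.sect F ((Opens.map i).obj U)) :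
    My (q := q) (ci := ci) (cg := cg) F z :=
  gm _ (x := q z) (U := (Opens.map g).obj U) hU (un g cg ((mor i ci).push.obj F) U (dn (ci := ci) F U s))

theorem val_res {U U' : Opens S} (j : U' ⟶ U) (hU' : g (q z) ∈ U') (s : ModSite.sect F ((Opens.map i).obj U)) :
    val (q := q) (ci := ci) (cg := cg) F z U' hU' (rs F ((Opens.map i).map j) s) =
      val (q := q) (ci := ci) (cg := cg) F z U (j.le hU') s :=
  (congrArg (gm _ _) (un_res g cg ((mor i ci).push.obj F) j (dn (ci := ci) F U s))).trans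
    (gm_rs ((Opens.map g).map j) _ _ _)

include hi hw in
theorem exists_ext (U : Opens P) (hU : p z ∈ U) :
    ∃ (U' : Opens S), g (q z) ∈ U' ∧ (Opens.map i).obj U' ≤ U := by
  obtain ⟨V, hV, hle⟩ := hi.nhd (p z) U hU
  exact ⟨V, hw z ▸ hV, hle⟩

/-- Value of a section of `F` at the point. -/
def valU (U : Opens P) (hU : p z ∈ U) (s : ModSite.sect F U) :
    My (q := q) (ci := ci) (cg := cg) F z :=
  val (q := q) (ci := ci) (cg := cg) F z _ (exists_ext hi hw z U hU).choose_spec.1
    (rs F (homOfLE (exists_ext hi hw z U hU).choose_spec.2) s)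

theorem valU_eq (U : Opens P) (hU : p z ∈ U) (s : ModSite.sect F U) (U' : Opens S)
    (hU' : g (q z) ∈ U') (hle : (Opens.map i).obj U' ≤ U) :
    valU (cg := cg) hi hw F z U hU s = val (q := q) (ci := ci) (cg := cg) F z U' hU' (rs F (homOfLE hle) s) := by
  let U₀ := (exists_ext hi hw z U hU).choose
  have h₀ := (exists_ext hi hw z U hU).choose_spec
  have h₁ : g (q z) ∈ U₀ ⊓ U' := ⟨h₀.1, hU'⟩
  refine (val_res (ci := ci) (cg := cg) F z (homOfLE (inf_le_left : U₀ ⊓ U' ≤ U₀)) h₁ _).symm.trans ?_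
  refine Eq.trans ?_ (val_res (ci := ci) (cg := cg) F z (homOfLE (inf_le_right : U₀ ⊓ U' ≤ U')) h₁ _)
  refine congrArg (val (q := q) (ci := ci) (cg := cg) F z _ h₁) ?_
  exact (rs_rs _ _ s).trans ((congrArg (fun j => rs F j s) (Subsingleton.elim _ _)).trans (rs_rs _ _ s).symm)

include hi hq hker hw hcomm in
/-- A retraction at the point. -/
theorem eq_zero_of_map {V : Opens Q} (hV : q z ∈ V) (m : ModSite.sect (M (ci := ci) (cg := cg) F) V)
    (hm : ap B m = 0) : gm _ hV m = 0 := by
  let lift := RingHom.liftOfSurjective (σ (cq := cq) z) (σ_surjective hq z)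
    ⟨Module.toAddMonoidEnd (ModSite.stalkRing (pt (q z)) OQ) (My (q := q) (ci := ci) (cg := cg) F z),
      fun r hr => RingHom.mem_ker.2 (AddMonoidHom.ext fun t =>
        smul_eq_zero_of_σ hker F z (RingHom.mem_ker.1 hr) t)⟩
  letI : Module (ModSite.stalkRing (pt z) OZ) (My (q := q) (ci := ci) (cg := cg) F z) :=
    Module.compHom _ lift
  have hlift : ∀ r (t : My (q := q) (ci := ci) (cg := cg) F z), σ (cq := cq) z r • t = r • t := fun r t => by
    show lift (σ (cq := cq) z r) t = r • t
    simp [lift, RingHom.liftOfRightInverse_comp_apply]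
    rfl
  let S₀ := sky OZ z (My (q := q) (ci := ci) (cg := cg) F z)
  let ρ₁ : F ⟶ (mor p cp).push.obj S₀ := ⟨PresheafOfModules.homMk
    { app := fun U => AddCommGrpCat.ofHom (AddMonoidHom.mk'
        (fun s => (fun h => valU (cg := cg) hi hw F z U.unop h.down s : PLift (p z ∈ U.unop) → _))
        (fun s t => funext fun h => by
          simp only [valU, val]
          show gm _ _ (un g cg _ _ _) = gm _ _ (un g cg _ _ _) + gm _ _ (un g cg _ _ _)
          rw [← map_add, ← un_add]
          exact congrArg (fun a => gm _ _ (un g cg _ _ a)) (map_add (F.val.presheaf.map _).hom s t)))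
      naturality := fun U U' j => by
        refine ConcreteCategory.hom_ext _ _ fun s => funext fun h => ?_
        obtain ⟨V₁, h₁, hle⟩ := exists_ext hi hw z U'.unop h.down
        refine (valU_eq hi hw F z U'.unop h.down (rs F j.unop s) V₁ h₁ hle).trans ?_
        refine Eq.trans ?_ (valU_eq hi hw F z U.unop (j.unop.le h.down) s V₁ h₁ (hle.trans j.unop.le)).symm
        exact congrArg (val (q := q) (ci := ci) (cg := cg) F z V₁ h₁)
          ((rs_rs j.unop (homOfLE hle) s).trans (congrArg (fun a => rs F a s) (Subsingleton.elim _ _))) }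
    (fun U r s => funext fun h => by
      obtain ⟨V₁, h₁, hle⟩ := exists_ext hi hw z U.unop h.down
      obtain ⟨V₂, h₂, b, hb⟩ := hi.surj (p z) (gr OP h.down r)
      obtain ⟨U₃, hU₃, hpz, hU₃'⟩ := exists_rr_eq (O := OP) (U := (Opens.map i).obj (V₁ ⊓ V₂))
        (x := p z) ⟨show i (p z) ∈ V₁ from (hw z).symm ▸ h₁, h₂⟩
        (fun _ : Unit => rr OP ((Opens.map i).map (homOfLE inf_le_right)) (sh i ci V₂ b))
        (fun _ : Unit => rr OP (homOfLE ((((Opens.map i).map (homOfLE inf_le_left))).le.trans hle)) r)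
        (fun _ => (gr_rr ((Opens.map i).map (homOfLE (inf_le_right : V₁ ⊓ V₂ ≤ V₂))) _ _ _).trans (hb.trans (gr_rr (homOfLE ((((Opens.map i).map (homOfLE (inf_le_left : V₁ ⊓ V₂ ≤ V₁)))).le.trans hle)) _ h.down r).symm))
      obtain ⟨V₄, h₄, hle₄⟩ := exists_ext hi hw z U₃ hpz
      let V₃ := V₁ ⊓ V₂ ⊓ V₄
      have h₃ : g (q z) ∈ V₃ := ⟨⟨h₁, hw z ▸ h₂⟩, h₄⟩
      have hle₃ : (Opens.map i).obj V₃ ≤ U.unop :=
        ((Opens.map i).map (homOfLE ((inf_le_left : V₃ ≤ V₁ ⊓ V₂).trans inf_le_left))).le.trans hle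
      have hle₅ : (Opens.map i).obj V₃ ≤ U₃ :=
        ((Opens.map i).map (homOfLE (inf_le_right : V₃ ≤ V₄))).le.trans hle₄
      let b₃ := rr OS (homOfLE ((inf_le_left : V₃ ≤ V₁ ⊓ V₂).trans inf_le_right)) b
      have hb₃ : sh i ci V₃ b₃ = rr OP (homOfLE hle₃) r := by
        refine (ConcreteCategory.congr_hom (ci.hom.naturality _) b).trans ?_
        have h5 := congrArg (rr OP (homOfLE hle₅)) (hU₃' ())
        rw [rr_rr, rr_rr, rr_rr, rr_rr] at h5
        exact Eq.trans (congrArg (fun a => rr OP a (sh i ci V₂ b)) (Subsingleton.elim _ _))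
          (h5.trans (congrArg (fun a => rr OP a r) (Subsingleton.elim _ _)))
      refine (valU_eq hi hw F z U.unop h.down _ V₃ h₃ hle₃).trans ?_
      show _ = gr OZ (x := z) (U := (Opens.map p).obj U.unop) h.down (sh p cp U.unop r) •
        valU (cg := cg) hi hw F z U.unop h.down s
      rw [valU_eq hi hw F z U.unop h.down s V₃ h₃ hle₃]
      have h7 : gr OZ (x := z) (U := (Opens.map p).obj U.unop) h.down (sh p cp U.unop r) =
          σ (cq := cq) z (gr OQ (x := q z) (U := (Opens.map g).obj V₃) h₃ (sh g cg V₃ b₃)) := by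
        rw [σ_gr]
        refine Eq.trans ?_ (hcomm z V₃ ((hw z).symm ▸ h₃) b₃)
        rw [hb₃]
        refine ((congrArg (gr OZ _) (ConcreteCategory.congr_hom (cp.hom.naturality _) r)).trans ?_).symm
        exact gr_rr ((Opens.map p).map (homOfLE hle₃)) _ _ _
      rw [h7, hlift, val, val, ← gm_smul, ← un_smul]
      refine congrArg (fun a => gm _ _ (un g cg _ _ a)) ?_
      refine (rs_smul _ r s).trans ?_
      exact congrArg (· • rs F (homOfLE hle₃) s) hb₃.symm)⟩
  let ρ := ((mor p cp).adj.homEquiv F S₀).symm ρ₁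
  let Ψ : M (ci := ci) (cg := cg) F ⟶ (mor q cq).push.obj S₀ := ⟨PresheafOfModules.homMk
    { app := fun U => AddCommGrpCat.ofHom (AddMonoidHom.mk'
        (fun m => (fun h => gm _ h.down m : PLift (q z ∈ U.unop) → _)) (fun s t => funext fun h => map_add _ s t))
      naturality := fun U U' j => by
        refine ConcreteCategory.hom_ext _ _ fun s => funext fun h => ?_
        exact gm_rs j.unop h.down (j.unop.le h.down) s }
    (fun U r s => funext fun h => by
      refine (gm_smul (M := M (ci := ci) (cg := cg) F) (U := U.unop) h.down r s).trans ?_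
      show _ = gr OZ (x := z) (U := (Opens.map q).obj U.unop) h.down (sh q cq U.unop r) •
        gm (M (ci := ci) (cg := cg) F) h.down s
      rw [← σ_gr, hlift])⟩
  have hcomp : B ≫ (mor q cq).push.map ρ = Ψ := by
    refine ((mor g cg).adj.homEquiv _ _).injective ?_
    rw [Adjunction.homEquiv_unit, Adjunction.homEquiv_unit]
    refine SheafOfModules.hom_ext (PresheafOfModules.hom_ext fun U => ModuleCat.hom_ext
      (LinearMap.ext fun s => funext fun (h : PLift (q z ∈ (Opens.map g).obj U.unop)) => ?_))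
    obtain ⟨U⟩ := U
    show (ρ.val.app _ (ap B (un g cg ((mor i ci).push.obj F) U s))) ⟨h.down⟩ =
      val (q := q) (ci := ci) (cg := cg) F z U h.down s
    rw [B_un hsq F U s]
    refine (congrFun (PresheafOfModules.naturality_apply ρ.val (e.inv.app U).op _) ⟨h.down⟩).trans ?_
    have hunit : ρ.val.app (op ((Opens.map p).obj ((Opens.map i).obj U)))
        (un p cp F ((Opens.map i).obj U) s) = ρ₁.val.app (op ((Opens.map i).obj U)) s := by
      have h8 := ((mor p cp).adj.homEquiv F S₀).apply_symm_apply ρ₁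
      rw [Adjunction.homEquiv_unit] at h8
      exact congrArg (fun φ => φ.val.app (op ((Opens.map i).obj U)) s) h8
    refine (congrFun hunit ⟨(e.inv.app U).le h.down⟩).trans ?_
    refine (valU_eq hi hw F z ((Opens.map i).obj U) ((e.inv.app U).le h.down) s U h.down le_rfl).trans ?_
    exact congrArg (val (q := q) (ci := ci) (cg := cg) F z U h.down) (rs_id s)
  have h9 : (Ψ.val.app (op V) m : PLift (q z ∈ V) → _) ⟨hV⟩ = 0 := by
    rw [← hcomp]
    refine (congrArg (fun a => (ρ.val.app (op ((Opens.map q).obj V)) a : PLift (z ∈ (Opens.map q).obj V) → _) ⟨hV⟩) hm).trans ?_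
    exact congrFun (map_zero (ρ.val.app (op ((Opens.map q).obj V))).hom) ⟨hV⟩
  exact h9

include hi hq hw in
/-- Local surjectivity at the point. -/
theorem exists_lift (t : ModSite.stalkAb (pt z) ((mor p cp).pull.obj F)) :
    ∃ (W : Opens Q) (hW : q z ∈ W) (m : ModSite.sect (M (ci := ci) (cg := cg) F) W),
      gm ((mor p cp).pull.obj F) (x := z) (U := (Opens.map q).obj W) hW (ap B m) = t := by
  induction gen p cp F z t using Submodule.span_induction with
  | zero => exact ⟨⊤, trivial, 0, (congrArg _ (map_zero _)).trans (map_zero _)⟩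
  | add a a' _ _ ha ha' =>
    obtain ⟨W, hW, m, rfl⟩ := ha
    obtain ⟨W', hW', m', rfl⟩ := ha'
    refine ⟨W ⊓ W', ⟨hW, hW'⟩, rs _ (homOfLE inf_le_left) m + rs _ (homOfLE inf_le_right) m', ?_⟩
    refine (congrArg _ (map_add _ _ _)).trans ((map_add _ _ _).trans ?_)
    rw [ap_rs, ap_rs]
    exact congrArg₂ (· + ·) (gm_rs ((Opens.map q).map (homOfLE inf_le_left)) _ _ _)
      (gm_rs ((Opens.map q).map (homOfLE inf_le_right)) _ _ _)
  | smul r a _ ha =>
    obtain ⟨W, hW, m, rfl⟩ := ha
    obtain ⟨W', hW', b, rfl⟩ := hq.surj z r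
    refine ⟨W ⊓ W', ⟨hW, hW'⟩, rr OQ (homOfLE (inf_le_right : W ⊓ W' ≤ W')) b • rs (M (ci := ci) (cg := cg) F) (homOfLE (inf_le_left : W ⊓ W' ≤ W)) m, ?_⟩
    refine (congrArg _ (map_smul _ _ _)).trans ((gm_smul _ _ _).trans ?_)
    refine congrArg₂ (· • ·) ?_ ?_
    · refine (congrArg (gr OZ _) (ConcreteCategory.congr_hom (cq.hom.naturality _) b)).trans ?_
      exact gr_rr ((Opens.map q).map (homOfLE inf_le_right)) _ _ _
    · exact (congrArg _ (ap_rs B (homOfLE (inf_le_left : W ⊓ W' ≤ W)) m)).trans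
        (gm_rs ((Opens.map q).map (homOfLE (inf_le_left : W ⊓ W' ≤ W))) _ _ _)
  | mem a ha =>
    obtain ⟨U, hU, s, rfl⟩ := ha
    obtain ⟨U', hU', hle⟩ := exists_ext hi hw z U hU
    refine ⟨(Opens.map g).obj U', hU', un g cg ((mor i ci).push.obj F) U'
      (dn (ci := ci) F U' (rs F (homOfLE hle) s)), ?_⟩
    rw [B_un hsq F U']
    refine (gm_rs (e.inv.app U') hU' ((e.inv.app U').le hU') _).trans ?_
    rw [un_res p cp F]
    exact gm_rs ((Opens.map p).map (homOfLE hle)) _ _ _

end Point

include hi hq hker hw hcomm hrange in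
theorem injective_app {V : Opens Q} (m : ModSite.sect (M (ci := ci) (cg := cg) F) V)
    (hm : ap B m = 0) : m = 0 := by
  refine TopCat.Presheaf.section_ext (C := AddCommGrpCat.{u})
    ((SheafOfModules.toSheaf (ModSite.ringSh OQ)).obj (M (ci := ci) (cg := cg) F)) V m 0 fun y hy => ?_
  have h0 : gm _ hy m = 0 := by
    by_cases h : y ∈ Set.range q
    · obtain ⟨z, rfl⟩ := h
      exact eq_zero_of_map hsq hi hq hw hcomm hker F z hy m hm
    · exact stalk_eq_zero hi hrange F h _
  obtain ⟨W, e', hW, he⟩ := exists_rs_eq (M := M (ci := ci) (cg := cg) F) hy (fun _ : Unit => m)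
    (fun _ => 0) (fun _ => h0.trans (map_zero _).symm)
  exact TopCat.Presheaf.germ_ext (C := AddCommGrpCat.{u})
    ((SheafOfModules.toSheaf (ModSite.ringSh OQ)).obj (M (ci := ci) (cg := cg) F)).obj W hW
      (homOfLE e') (homOfLE e') (he ())

include hi hq hw in
theorem exists_local (V : Opens Q) (t : ModSite.sect ((mor p cp).pull.obj F) ((Opens.map q).obj V))
    (y : Q) (hy : y ∈ V) :
    ∃ (W : Opens Q) (j : W ⟶ V) (m : ModSite.sect (M (ci := ci) (cg := cg) F) W), y ∈ W ∧
      ap B m = rs ((mor q cq).push.obj ((mor p cp).pull.obj F)) j t := by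
  by_cases h : y ∈ Set.range q
  · obtain ⟨z, rfl⟩ := h
    obtain ⟨W, hW, m, hm⟩ := exists_lift hsq hi hq hw F z (gm ((mor p cp).pull.obj F) (x := z) (U := (Opens.map q).obj V) hy t)
    obtain ⟨U, eU, hzU, hU⟩ := exists_rs_eq (M := (mor p cp).pull.obj F)
      (U := (Opens.map q).obj (W ⊓ V)) (x := z) ⟨hW, hy⟩
      (fun _ : Unit => rs _ ((Opens.map q).map (homOfLE inf_le_left)) (ap B m))
      (fun _ : Unit => rs _ ((Opens.map q).map (homOfLE inf_le_right)) t)
      (fun _ => (gm_rs ((Opens.map q).map (homOfLE (inf_le_left : W ⊓ V ≤ W))) _ _ _).trans (hm.trans (gm_rs ((Opens.map q).map (homOfLE (inf_le_right : W ⊓ V ≤ V))) _ _ t).symm))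
    obtain ⟨W', hW', hle⟩ := hq.nhd z U hzU
    refine ⟨W ⊓ V ⊓ W', homOfLE (inf_le_left.trans inf_le_right),
      rs _ (homOfLE (inf_le_left.trans inf_le_left)) m, ⟨⟨hW, hy⟩, hW'⟩, ?_⟩
    rw [ap_rs]
    have hle' : (Opens.map q).obj (W ⊓ V ⊓ W') ≤ U :=
      ((Opens.map q).map (homOfLE inf_le_right)).le.trans hle
    have h5 := congrArg (rs ((mor p cp).pull.obj F) (homOfLE hle')) (hU ())
    rw [rs_rs, rs_rs, rs_rs, rs_rs] at h5
    refine Eq.trans ?_ (h5.trans ?_)
    · exact congrArg (fun a => rs ((mor p cp).pull.obj F) a (ap B m)) (Subsingleton.elim _ _)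
    · exact congrArg (fun a => rs ((mor p cp).pull.obj F) a t) (Subsingleton.elim _ _)
  · let W : Opens Q := V ⊓ ⟨(Set.range q)ᶜ, hq.closed.isOpen_compl⟩
    have hb : (Opens.map q).obj W = ⊥ := le_bot_iff.1 fun a ha => absurd ⟨a, rfl⟩ ha.2
    haveI : Subsingleton (ModSite.sect ((mor p cp).pull.obj F) ((Opens.map q).obj W)) :=
      AddCommGrpCat.subsingleton_of_isZero ((TopCat.Sheaf.isTerminalOfEqEmpty
        ((SheafOfModules.toSheaf (ModSite.ringSh OZ)).obj ((mor p cp).pull.obj F)) hb).isZero)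
    exact ⟨W, homOfLE inf_le_left, 0, ⟨hy, h⟩,
      Subsingleton.elim (α := ModSite.sect ((mor p cp).pull.obj F) ((Opens.map q).obj W)) _ _⟩

include hi hq hker hw hcomm hrange in
theorem isIso_bcMap : IsIso B := by
  haveI : Mono B := mono_of_injective _ fun V m hm =>
    injective_app hsq hi hq hrange hw hcomm hker F m hm
  haveI : Epi B := epi_of_exists_lift _ fun V t =>
    ⟨{ arrows := fun W j => ∃ x, ap B x = rs ((mor q cq).push.obj ((mor p cp).pull.obj F)) j t
       downward_closed := fun {W W' j} ⟨x, hx⟩ j' => ⟨rs _ j' x, by rw [ap_rs, hx]; exact rs_rs _ _ _⟩ },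
      fun y hy => by
        obtain ⟨W, j, m, hyW, hm⟩ := exists_local hsq hi hq hw F V t y hy
        exact ⟨W, j, ⟨m, hm⟩, hyW⟩, fun _ _ h => h⟩
  exact isIso_of_mono_of_epi _

end Square

end

end Groth.Agent.H22.CImm.Gen
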